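import Mathlib

/-!
Degree `p` division algebras in characteristic `p`: degrees of elements.
-/

namespace Groth.Agent.CSAp

open Polynomial

universe u v

variable {K : Type u} [Field K] {A : Type v} [DivisionRing A] [Algebra K A] [FiniteDimensional K A]

lemma finrank_subalgebra_dvd (B : Subalgebra K A) :
    Module.finrank K B ∣ Module.finrank K A := by
  letI : DivisionRing B := divisionRingOfFiniteDimensional K B
  exact ⟨_, (Module.finrank_mul_finrank K B A).symm⟩

lemma finrank_adjoin_singleton (x : A) :
    Module.finrank K (Algebra.adjoin K {x}) = (minpoly K x).natDegree := by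
  have hint : IsIntegral K x := IsIntegral.of_finite K x
  set d := (minpoly K x).natDegree
  let g : degreeLT K d →ₗ[K] Algebra.adjoin K {x} :=
    LinearMap.codRestrict (Subalgebra.toSubmodule (Algebra.adjoin K {x}))
      ((aeval x).toLinearMap.comp (Submodule.subtype _))
      (fun q => by simp [Algebra.adjoin_singleton_eq_range_aeval])
  have hg : Function.Bijective g := by
    constructor
    · rw [← LinearMap.ker_eq_bot, LinearMap.ker_eq_bot']
      rintro ⟨q, hq⟩ h
      have h' : aeval x q = 0 := congrArg Subtype.val h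
      rw [mem_degreeLT] at hq
      ext1
      by_contra hne
      have hle := minpoly.degree_le_of_ne_zero K x hne h'
      rw [degree_eq_natDegree (minpoly.ne_zero hint)] at hle
      exact absurd (lt_of_le_of_lt hle hq) (lt_irrefl _)
    · rintro ⟨y, hy⟩
      rw [Algebra.adjoin_singleton_eq_range_aeval] at hy
      obtain ⟨q, rfl⟩ := hy
      refine ⟨⟨q %ₘ minpoly K x, ?_⟩, Subtype.ext (minpoly.aeval_modByMonic_minpoly q x)⟩
      rw [mem_degreeLT, ← degree_eq_natDegree (minpoly.ne_zero hint)]
      exact degree_modByMonic_lt _ (minpoly.monic hint)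
  rw [← (LinearEquiv.ofBijective g hg).finrank_eq, (degreeLTEquiv K d).finrank_eq,
    Module.finrank_fin_fun]

variable {p : ℕ} [Fact p.Prime]

lemma adjoin_eq_top_of_finrank (hA : Module.finrank K A = p ^ 2) {B : Subalgebra K A}
    (hB : Module.finrank K B = p ^ 2) : B = ⊤ :=
  Subalgebra.eq_of_le_of_finrank_eq le_top (by
    rw [hB, Subalgebra.topEquiv.toLinearEquiv.finrank_eq, hA])

lemma natDegree_minpoly [Algebra.IsCentral K A] (hA : Module.finrank K A = p ^ 2) {x : A}
    (hx : x ∉ (algebraMap K A).range) : (minpoly K x).natDegree = p := by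
  have hp : p.Prime := Fact.out
  obtain ⟨i, hi, he⟩ := (Nat.dvd_prime_pow hp).1 (hA ▸ finrank_subalgebra_dvd (Algebra.adjoin K {x}))
  rw [finrank_adjoin_singleton] at he
  interval_cases i
  · exact absurd (minpoly.natDegree_eq_one_iff.1 (by rw [he, pow_zero])) hx
  · rw [he, pow_one]
  · exfalso
    have htop : Algebra.adjoin K {x} = ⊤ :=
      adjoin_eq_top_of_finrank hA (by rw [finrank_adjoin_singleton, he])
    have hcomm : ∀ a b : A, a * b = b * a := by
      intro a b
      have ha : a ∈ Algebra.adjoin K {x} := htop ▸ Algebra.mem_top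
      have hb : b ∈ Algebra.adjoin K {x} := htop ▸ Algebra.mem_top
      rw [Algebra.adjoin_singleton_eq_range_aeval] at ha hb
      obtain ⟨qa, rfl⟩ := ha
      obtain ⟨qb, rfl⟩ := hb
      show aeval x qa * aeval x qb = aeval x qb * aeval x qa
      rw [← map_mul, ← map_mul, mul_comm]
    have hc : x ∈ Subalgebra.center K A := Subalgebra.mem_center_iff.2 fun b => hcomm b x
    rw [Algebra.IsCentral.center_eq_bot, Algebra.mem_bot] at hc
    exact hx hc

lemma notMem_range_of_comm_ne {x y : A} (h : x * y ≠ y * x) :
    x ∉ (algebraMap K A).range := by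
  rintro ⟨k, rfl⟩
  exact h (Algebra.commutes k y)

lemma adjoin_pair_eq_top [Algebra.IsCentral K A] (hA : Module.finrank K A = p ^ 2) {x y : A}
    (h : x * y ≠ y * x) : Algebra.adjoin K {x, y} = ⊤ := by
  have hp : p.Prime := Fact.out
  refine adjoin_eq_top_of_finrank hA ?_
  obtain ⟨i, hi, he⟩ :=
    (Nat.dvd_prime_pow hp).1 (hA ▸ finrank_subalgebra_dvd (Algebra.adjoin K {x, y}))
  have hle : Algebra.adjoin K {x} ≤ Algebra.adjoin K {x, y} := Algebra.adjoin_mono (by simp)
  have hd : Module.finrank K (Algebra.adjoin K {x}) = p := by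
    rw [finrank_adjoin_singleton, natDegree_minpoly hA (notMem_range_of_comm_ne h)]
  have hlt : p < Module.finrank K (Algebra.adjoin K {x, y}) := by
    rw [← hd]
    refine Submodule.finrank_lt_finrank_of_lt (s := Subalgebra.toSubmodule (Algebra.adjoin K {x}))
      (t := Subalgebra.toSubmodule (Algebra.adjoin K {x, y})) ?_
    refine lt_of_le_of_ne hle fun he => h ?_
    have hy : y ∈ Algebra.adjoin K {x} := by
      have : y ∈ Subalgebra.toSubmodule (Algebra.adjoin K {x, y}) := Algebra.subset_adjoin (by simp)
      rw [← he] at this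
      exact this
    rw [Algebra.adjoin_singleton_eq_range_aeval] at hy
    obtain ⟨q, rfl⟩ := hy
    show x * aeval x q = aeval x q * x
    conv_lhs => arg 1; rw [← aeval_X (R := K) x]
    conv_rhs => arg 2; rw [← aeval_X (R := K) x]
    rw [← map_mul, ← map_mul, mul_comm]
  rw [he] at hlt ⊢
  interval_cases i <;> simp_all <;> nlinarith [hp.two_le]

lemma mem_range_of_commute [Algebra.IsCentral K A] (hA : Module.finrank K A = p ^ 2) {x y z : A}
    (h : x * y ≠ y * x) (hx : z * x = x * z) (hy : z * y = y * z) :
    z ∈ (algebraMap K A).range := by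
  have hc : z ∈ Subalgebra.center K A := by
    rw [Subalgebra.mem_center_iff]
    intro b
    have hb : b ∈ Algebra.adjoin K {x, y} := by
      rw [adjoin_pair_eq_top hA h]; exact Algebra.mem_top
    induction hb using Algebra.adjoin_induction with
    | mem w hw => rcases hw with rfl | rfl <;> [exact hx.symm; exact hy.symm]
    | algebraMap k => exact Algebra.commutes k z
    | add a b _ _ ha hb => rw [add_mul, mul_add, ha, hb]
    | mul a b _ _ ha hb => rw [mul_assoc, hb, ← mul_assoc, ha, mul_assoc]
  rw [Algebra.IsCentral.center_eq_bot, Algebra.mem_bot] at hc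
  exact hc

/-- the inner derivation -/
noncomputable def ad (t : A) : Module.End K A := LinearMap.mulLeft K t - LinearMap.mulRight K t

lemma ad_apply (t z : A) : ad (K := K) t z = t * z - z * t := rfl

lemma ad_pow [CharP K p] (t z : A) :
    ((ad (K := K) t) ^ p) z = t ^ p * z - z * t ^ p := by
  haveI : CharP (Module.End K A) p :=
    charP_of_injective_algebraMap (algebraMap K (Module.End K A)).injective p
  rw [ad, sub_pow_char_of_commute (R := Module.End K A) (p := p)
      (LinearMap.commute_mulLeft_right t t),
    LinearMap.pow_mulLeft, LinearMap.pow_mulRight]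
  rfl

/-- if `v u - u v = 1` then `u ^ p` is central -/
lemma pow_mem_range [CharP K p] [Algebra.IsCentral K A] (hA : Module.finrank K A = p ^ 2) {v u : A}
    (hvu : v * u - u * v = 1) : u ^ p ∈ (algebraMap K A).range := by
  have hp : p.Prime := Fact.out
  have hne : v * u ≠ u * v := fun h => one_ne_zero (hvu ▸ sub_eq_zero.2 h : (1 : A) = 0)
  refine mem_range_of_commute (x := v) (y := u) hA hne ?_ (by rw [← pow_succ, pow_succ'])
  have h1 : ad (K := K) u v = -1 := by rw [ad_apply, ← hvu, neg_sub]
  have h2 : ad (K := K) u (ad (K := K) u v) = 0 := by simp [h1, ad_apply]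
  have h3 : ((ad (K := K) u) ^ p) v = 0 := by
    obtain ⟨m, hm⟩ : ∃ m, p = m + 2 := ⟨p - 2, by have := hp.two_le; omega⟩
    rw [hm, pow_add, Module.End.mul_apply, pow_two, Module.End.mul_apply, h2, map_zero]
  rwa [ad_pow, sub_eq_zero] at h3

end Groth.Agent.CSAp
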